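import Mathlib

/-!
# Flat lifts of smooth algebras to the dual numbers
-/

noncomputable section

universe u

open TensorProduct TrivSqZeroExt

namespace GrothLib.MarkedDef26

variable {k A : Type u} [Field k] [CommRing A] [Algebra k A]

/-- The map `k[ε] → A[ε]`. -/
def dualMap : DualNumber k →ₐ[k] DualNumber A :=
  DualNumber.lift ⟨(Algebra.ofId k (DualNumber A), DualNumber.eps),
    DualNumber.eps_mul_eps, fun _ => Commute.all _ _⟩

theorem dualMap_fst (x : DualNumber k) : (dualMap (A := A) x).fst = algebraMap k A x.fst := by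
  rw [dualMap, DualNumber.lift_apply_apply]
  simp [TrivSqZeroExt.algebraMap_eq_inl']

theorem dualMap_snd (x : DualNumber k) : (dualMap (A := A) x).snd = algebraMap k A x.snd := by
  rw [dualMap, DualNumber.lift_apply_apply]
  simp [TrivSqZeroExt.algebraMap_eq_inl']

/-- `A ⊗ k[ε] → A[ε]`. -/
def dualTensor : A ⊗[k] DualNumber k →ₐ[k] DualNumber A :=
  Algebra.TensorProduct.lift (TrivSqZeroExt.inlAlgHom k A A) dualMap fun _ _ => Commute.all _ _

theorem dualTensor_bijective : Function.Bijective (dualTensor (k := k) (A := A)) := by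
  refine Function.bijective_iff_has_inverse.2
    ⟨fun x => x.fst ⊗ₜ (1 : DualNumber k) + x.snd ⊗ₜ DualNumber.eps, fun z => ?_, fun x => ?_⟩
  · induction z using TensorProduct.induction_on with
    | zero => simp
    | add a b ha hb =>
      simp only [map_add] at ha hb ⊢
      rw [TrivSqZeroExt.fst_add, TrivSqZeroExt.snd_add, add_tmul, add_tmul]
      conv_rhs => rw [← ha, ← hb]
      abel
    | tmul a c =>
      have e1 : dualTensor (a ⊗ₜ[k] c) = (inl a : DualNumber A) * dualMap c := rfl
      show (dualTensor (a ⊗ₜ[k] c)).fst ⊗ₜ (1 : DualNumber k) + (dualTensor (a ⊗ₜ[k] c)).snd ⊗ₜ DualNumber.eps = _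
      rw [e1, TrivSqZeroExt.fst_mul, TrivSqZeroExt.snd_mul, dualMap_fst, dualMap_snd]
      simp only [TrivSqZeroExt.fst_inl, TrivSqZeroExt.snd_inl, smul_eq_mul, smul_zero, add_zero]
      rw [mul_comm a, mul_comm a, ← Algebra.smul_def, ← Algebra.smul_def, smul_tmul, smul_tmul, ← tmul_add]
      congr 1
      exact TrivSqZeroExt.ext (by simp) (by simp)
  · show dualTensor _ = _
    rw [map_add]
    show (inl x.fst : DualNumber A) * dualMap 1 + (inl x.snd : DualNumber A) * dualMap DualNumber.eps = _
    refine TrivSqZeroExt.ext ?_ ?_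
    · simp [dualMap_fst]
    · simp [dualMap_snd]

variable {E : Type u} [CommRing E] [Algebra (DualNumber k) E] [Algebra k E] [IsScalarTower k (DualNumber k) E]

/-- A flat algebra over the dual numbers with smooth special fibre is trivial. -/
theorem exists_dualNumber_equiv [Algebra.FormallySmooth k A] [Module.Flat (DualNumber k) E] (ι : E →ₐ[k] A)
    (hsurj : Function.Surjective ι)
    (hker : ∀ y, ι y = 0 ↔ ∃ z, y = algebraMap (DualNumber k) E DualNumber.eps * z) :
    ∃ Ψ : DualNumber A →ₐ[k] E, Function.Bijective Ψ ∧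
      Ψ DualNumber.eps = algebraMap (DualNumber k) E DualNumber.eps ∧ ∀ x, ι (Ψ x) = x.fst := by
  have hee : algebraMap (DualNumber k) E DualNumber.eps * algebraMap (DualNumber k) E DualNumber.eps = 0 := by
    rw [← map_mul, DualNumber.eps_mul_eps, map_zero]
  have hnil : IsNilpotent (RingHom.ker (ι : E →+* A)) := by
    refine ⟨2, le_bot_iff.1 ?_⟩
    rw [pow_two, Ideal.mul_le]
    intro x hx y hy
    obtain ⟨a, rfl⟩ := (hker x).1 hx
    obtain ⟨b, rfl⟩ := (hker y).1 hy
    rw [Ideal.mem_bot, mul_mul_mul_comm, hee, zero_mul]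
  let s : A →ₐ[k] E := Algebra.FormallySmooth.liftOfSurjective (AlgHom.id k A) ι hsurj hnil
  have hs : ∀ a, ι (s a) = a := fun a => Algebra.FormallySmooth.liftOfSurjective_apply _ ι hsurj hnil a
  let e : E := algebraMap (DualNumber k) E DualNumber.eps
  have he : ι e = 0 := (hker e).2 ⟨1, (mul_one _).symm⟩
  let Ψ : DualNumber A →ₐ[k] E :=
    DualNumber.lift ⟨(s, e), hee, fun _ => Commute.all _ _⟩
  have hΨ : ∀ x, Ψ x = s x.fst + s x.snd * e := fun x => DualNumber.lift_apply_apply _ _
  have hι : ∀ x, ι (Ψ x) = x.fst := fun x => by rw [hΨ, map_add, map_mul, hs, he, mul_zero, add_zero]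
  have hann : ∀ z : E, e * z = 0 → ι z = 0 := fun z hz => by
    have hf : Function.Exact (LinearMap.mulLeft (DualNumber k) (DualNumber.eps : DualNumber k))
        (LinearMap.mulLeft (DualNumber k) (DualNumber.eps : DualNumber k)) := fun x => by
      simp only [LinearMap.mulLeft_apply, Set.mem_range]
      refine ⟨fun hx => ?_, ?_⟩
      · refine ⟨(inl x.snd : DualNumber k), ?_⟩
        have h0 : x.fst = 0 := by simpa using congrArg TrivSqZeroExt.snd hx
        exact TrivSqZeroExt.ext (by simp [h0]) (by simp)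
      · rintro ⟨y, rfl⟩
        rw [← mul_assoc, DualNumber.eps_mul_eps, zero_mul]
    have hE := Module.Flat.lTensor_exact E hf
    have h0 : (LinearMap.mulLeft (DualNumber k) (DualNumber.eps : DualNumber k)).lTensor E (z ⊗ₜ 1) = 0 := by
      apply (TensorProduct.rid (DualNumber k) E).injective
      rw [map_zero, LinearMap.lTensor_tmul, LinearMap.mulLeft_apply, mul_one, TensorProduct.rid_tmul,
        Algebra.smul_def]
      exact hz
    obtain ⟨w, hw⟩ := (hE _).1 h0
    refine (hker z).2 ⟨TensorProduct.rid (DualNumber k) E w, ?_⟩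
    have key : ∀ w, TensorProduct.rid (DualNumber k) E
        ((LinearMap.mulLeft (DualNumber k) (DualNumber.eps : DualNumber k)).lTensor E w) =
        e * TensorProduct.rid (DualNumber k) E w := fun w => by
      induction w using TensorProduct.induction_on with
      | zero => simp
      | add a b ha hb => simp only [map_add, ha, hb, mul_add]
      | tmul a c =>
        rw [LinearMap.lTensor_tmul, LinearMap.mulLeft_apply, TensorProduct.rid_tmul, TensorProduct.rid_tmul,
          Algebra.smul_def, Algebra.smul_def, map_mul, mul_assoc]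
    have := key w
    rw [hw, TensorProduct.rid_tmul, one_smul] at this
    exact this
  refine ⟨Ψ, ⟨(injective_iff_map_eq_zero Ψ).2 fun x hx => ?_, fun y => ?_⟩, ?_, hι⟩
  · have h1 : x.fst = 0 := by rw [← hι, hx, map_zero]
    rw [hΨ, h1, map_zero, zero_add, mul_comm] at hx
    have h2 := hann _ hx
    rw [hs] at h2
    exact TrivSqZeroExt.ext h1 h2
  · obtain ⟨z, hz⟩ := (hker (y - s (ι y))).1 (by rw [map_sub, hs, sub_self])
    obtain ⟨w, hw⟩ := (hker (z - s (ι z))).1 (by rw [map_sub, hs, sub_self])
    refine ⟨inl (ι y) + inr (ι z), ?_⟩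
    rw [hΨ]
    simp only [TrivSqZeroExt.fst_add, TrivSqZeroExt.fst_inl, TrivSqZeroExt.fst_inr, TrivSqZeroExt.snd_add,
      TrivSqZeroExt.snd_inl, TrivSqZeroExt.snd_inr, add_zero, zero_add]
    rw [sub_eq_iff_eq_add] at hz hw
    conv_rhs => rw [hz, hw]
    rw [mul_add, ← mul_assoc, hee, zero_mul, zero_add]
    ring
  · rw [hΨ]
    simp [e]

end GrothLib.MarkedDef26
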